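import Mathlib
import Cfsg.Agent.Lib.Helper22.ClsSetA

/-!
# S4146 (class sizes `{1, n, m, nm}`, `gcd(n,m)=1`): base definitions (helper16)

`idx g` (from helper22's `ClsSetA`) is the index of the centralizer of `g`.
`PEl p g`: `g` has `p`-power order.  `CS G n m`: the class-size hypothesis.
`M h hlt`: the normal subgroup `{g | idx g = 1 ∨ idx g = m}` (needs `m < n`).
-/

set_option autoImplicit false

namespace Cfsg.Agent.Lib.Helper16.NM

open Cfsg.Agent.Lib.Helper22.ClsSet

variable {G : Type*} [Group G]

/-- `g` has `p`-power order -/
def PEl (p : ℕ) (g : G) : Prop := ∃ k : ℕ, orderOf g = p ^ k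

/-- the class sizes of `G` are exactly `1, n, m, nm` with `n, m > 1` coprime -/
structure CS (G : Type*) [Group G] (n m : ℕ) : Prop where
  one_lt_n : 1 < n
  one_lt_m : 1 < m
  cop : n.Coprime m
  cs : ∀ g : G, idx g = 1 ∨ idx g = n ∨ idx g = m ∨ idx g = n * m
  ex_n : ∃ g : G, idx g = n
  ex_m : ∃ g : G, idx g = m
  ex_nm : ∃ g : G, idx g = n * m

theorem CS.symm {n m : ℕ} (h : CS G n m) : CS G m n where
  one_lt_n := h.one_lt_m
  one_lt_m := h.one_lt_n
  cop := h.cop.symm
  cs := fun g => by
    rcases h.cs g with h1 | h1 | h1 | h1
    · exact Or.inl h1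
    · exact Or.inr (Or.inr (Or.inl h1))
    · exact Or.inr (Or.inl h1)
    · exact Or.inr (Or.inr (Or.inr (by rw [h1, mul_comm])))
  ex_n := h.ex_m
  ex_m := h.ex_n
  ex_nm := by
    obtain ⟨g, hg⟩ := h.ex_nm
    exact ⟨g, by rw [hg, mul_comm]⟩

theorem CS.n_ne_m {n m : ℕ} (h : CS G n m) : n ≠ m := by
  intro e
  have := h.cop
  rw [e, Nat.coprime_self] at this
  have := h.one_lt_m
  omega

/-- a divisor of `m` among the class sizes is `1` or `m` -/
theorem CS.idx_of_dvd_m {n m : ℕ} (h : CS G n m) {g : G} (hd : idx g ∣ m) :
    idx g = 1 ∨ idx g = m := by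
  rcases h.cs g with h1 | h1 | h1 | h1
  · exact Or.inl h1
  · exfalso
    rw [h1] at hd
    have : n ∣ Nat.gcd n m := Nat.dvd_gcd dvd_rfl hd
    rw [h.cop] at this
    have := h.one_lt_n
    have := Nat.le_of_dvd one_pos ‹n ∣ 1›
    omega
  · exact Or.inr h1
  · exfalso
    rw [h1] at hd
    have hn : n ∣ m := dvd_trans (dvd_mul_right n m) hd
    have : n ∣ Nat.gcd n m := Nat.dvd_gcd dvd_rfl hn
    rw [h.cop] at this
    have := h.one_lt_n
    have := Nat.le_of_dvd one_pos ‹n ∣ 1›
    omega

theorem CS.idx_of_dvd_n {n m : ℕ} (h : CS G n m) {g : G} (hd : idx g ∣ n) :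
    idx g = 1 ∨ idx g = n := h.symm.idx_of_dvd_m hd

/-- a class size divisible by both `n` and `m` is `n * m` -/
theorem CS.idx_of_dvd_dvd {n m : ℕ} (h : CS G n m) {g : G} (hn : n ∣ idx g) (hm : m ∣ idx g) :
    idx g = n * m := by
  have hnm : n * m ∣ idx g := h.cop.mul_dvd_of_dvd_of_dvd hn hm
  rcases h.cs g with h1 | h1 | h1 | h1
  · exfalso
    rw [h1] at hn
    have := Nat.le_of_dvd one_pos hn
    have := h.one_lt_n
    omega
  · exfalso
    rw [h1] at hnm
    have := Nat.le_of_dvd (by have := h.one_lt_n; omega) hnm
    have := h.one_lt_m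
    have := h.one_lt_n
    nlinarith
  · exfalso
    rw [h1] at hnm
    have := Nat.le_of_dvd (by have := h.one_lt_m; omega) hnm
    have := h.one_lt_m
    have := h.one_lt_n
    nlinarith
  · exact h1

/-- for commuting elements of coprime orders the centralizer of the product is the intersection -/
theorem cent_mul_of_coprime {x y : G} (hc : Commute x y)
    (hcop : (orderOf x).Coprime (orderOf y)) :
    Subgroup.centralizer ({x * y} : Set G) =
      Subgroup.centralizer ({x} : Set G) ⊓ Subgroup.centralizer ({y} : Set G) := by
  apply le_antisymm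
  · apply le_inf
    · exact cent_le_of_mem_zpowers (mem_zpowers_mul_of_coprime hc hcop)
    · have := cent_le_of_mem_zpowers (mem_zpowers_mul_of_coprime hc.symm hcop.symm)
      rwa [← hc.eq] at this
  · intro g hg
    obtain ⟨h1, h2⟩ := Subgroup.mem_inf.1 hg
    rw [mem_cent_singleton] at h1 h2 ⊢
    rw [mul_assoc, h2, ← mul_assoc, h1, mul_assoc]

section M

variable [Finite G] {n m : ℕ}

/-- `M = Z(G) ∪ {elements of index m}` is a subgroup when `m < n` -/
noncomputable def M (h : CS G n m) (hlt : m < n) : Subgroup G where
  carrier := {g | idx g = 1 ∨ idx g = m}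
  one_mem' := Or.inl idx_one
  inv_mem' := by
    intro g hg
    have : Subgroup.centralizer ({g⁻¹} : Set G) = Subgroup.centralizer ({g} : Set G) := by
      ext x
      rw [mem_cent_singleton, mem_cent_singleton]
      constructor
      · intro hx
        have : Commute g⁻¹ x := hx
        exact (Commute.inv_left_iff.1 this).eq
      · intro hx
        have : Commute g x := hx
        exact (Commute.inv_left_iff.2 this).eq
    show idx g⁻¹ = 1 ∨ idx g⁻¹ = m
    unfold idx
    rw [this]
    exact hg
  mul_mem' := by
    intro a b ha hb
    show idx (a * b) = 1 ∨ idx (a * b) = m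
    -- central cases
    rcases ha with ha | ha
    · have haz : a ∈ Subgroup.center G := (idx_eq_one_iff a).1 ha
      have : Subgroup.centralizer ({a * b} : Set G) = Subgroup.centralizer ({b} : Set G) := by
        ext x
        rw [mem_cent_singleton, mem_cent_singleton]
        have hax : a * x = x * a := (Subgroup.mem_center_iff.1 haz x).symm
        constructor
        · intro hx
          have : a * (b * x) = a * (x * b) := by
            calc a * (b * x) = (a * b) * x := by group
              _ = x * (a * b) := hx
              _ = (x * a) * b := by group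
              _ = (a * x) * b := by rw [hax]
              _ = a * (x * b) := by group
          exact mul_left_cancel this
        · intro hx
          calc a * b * x = a * (b * x) := by group
            _ = a * (x * b) := by rw [hx]
            _ = (a * x) * b := by group
            _ = (x * a) * b := by rw [hax]
            _ = x * (a * b) := by group
      unfold idx
      rw [this]
      exact hb
    rcases hb with hb | hb
    · have hbz : b ∈ Subgroup.center G := (idx_eq_one_iff b).1 hb
      have : Subgroup.centralizer ({a * b} : Set G) = Subgroup.centralizer ({a} : Set G) := by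
        ext x
        rw [mem_cent_singleton, mem_cent_singleton]
        have hbx : b * x = x * b := (Subgroup.mem_center_iff.1 hbz x).symm
        constructor
        · intro hx
          have : (a * x) * b = (x * a) * b := by
            calc (a * x) * b = a * (x * b) := by group
              _ = a * (b * x) := by rw [hbx]
              _ = (a * b) * x := by group
              _ = x * (a * b) := hx
              _ = (x * a) * b := by group
          exact mul_right_cancel this
        · intro hx
          calc a * b * x = a * (b * x) := by group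
            _ = a * (x * b) := by rw [hbx]
            _ = (a * x) * b := by group
            _ = (x * a) * b := by rw [hx]
            _ = x * (a * b) := by group
      unfold idx
      rw [this]
      exact Or.inr ha
    -- both of index m
    by_contra hcon
    have hn : n ∣ idx (a * b) := by
      rcases h.cs (a * b) with h1 | h1 | h1 | h1
      · exact absurd (Or.inl h1) hcon
      · rw [h1]
      · exact absurd (Or.inr h1) hcon
      · rw [h1]; exact dvd_mul_right n m
    set Ca := Subgroup.centralizer ({a} : Set G)
    set Cb := Subgroup.centralizer ({b} : Set G)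
    set Cab := Subgroup.centralizer ({a * b} : Set G)
    have hE : Cab ⊓ Cb = Ca ⊓ Cb := by
      ext x
      simp only [Subgroup.mem_inf]
      constructor
      · rintro ⟨h1, h2⟩
        refine ⟨?_, h2⟩
        rw [mem_cent_singleton] at h1 h2 ⊢
        have : (a * x) * b = (x * a) * b := by
          calc (a * x) * b = a * (x * b) := by group
            _ = a * (b * x) := by rw [h2]
            _ = (a * b) * x := by group
            _ = x * (a * b) := h1
            _ = (x * a) * b := by group
        exact mul_right_cancel this
      · rintro ⟨h1, h2⟩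
        refine ⟨?_, h2⟩
        rw [mem_cent_singleton] at h1 h2 ⊢
        calc a * b * x = a * (b * x) := by group
          _ = a * (x * b) := by rw [h2]
          _ = (a * x) * b := by group
          _ = (x * a) * b := by rw [h1]
          _ = x * (a * b) := by group
    have h1 : n ∣ (Cab ⊓ Cb).index := dvd_trans hn (Subgroup.index_dvd_of_le inf_le_left)
    have h2 : m ∣ (Cab ⊓ Cb).index := by
      have : Cb.index = m := hb
      rw [← this]
      exact Subgroup.index_dvd_of_le inf_le_right
    have h3 : n * m ∣ (Cab ⊓ Cb).index := h.cop.mul_dvd_of_dvd_of_dvd h1 h2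
    have h4 : (Ca ⊓ Cb).index ≤ Ca.index * Cb.index := Subgroup.index_inf_le
    have h5 : Ca.index = m := ha
    have h6 : Cb.index = m := hb
    rw [hE] at h3
    have h7 : (Ca ⊓ Cb).index ≠ 0 := Subgroup.index_ne_zero_of_finite
    have h8 : n * m ≤ (Ca ⊓ Cb).index := Nat.le_of_dvd (Nat.pos_of_ne_zero h7) h3
    rw [h5, h6] at h4
    have : n * m ≤ m * m := le_trans h8 h4
    have hm := h.one_lt_m
    nlinarith

theorem mem_M (h : CS G n m) (hlt : m < n) (g : G) : g ∈ M h hlt ↔ (idx g = 1 ∨ idx g = m) :=
  Iff.rfl

instance M_normal (h : CS G n m) (hlt : m < n) : (M h hlt).Normal where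
  conj_mem := by
    intro g hg c
    rw [mem_M] at hg ⊢
    rwa [idx_conj]

theorem center_le_M (h : CS G n m) (hlt : m < n) : Subgroup.center G ≤ M h hlt := by
  intro g hg
  exact Or.inl ((idx_eq_one_iff g).2 hg)

theorem not_mem_M_iff (h : CS G n m) (hlt : m < n) (g : G) :
    g ∉ M h hlt ↔ (idx g = n ∨ idx g = n * m) := by
  rw [mem_M]
  have hn := h.one_lt_n
  have hm := h.one_lt_m
  constructor
  · intro hg
    rcases h.cs g with h1 | h1 | h1 | h1
    · exact absurd (Or.inl h1) hg
    · exact Or.inl h1
    · exact absurd (Or.inr h1) hg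
    · exact Or.inr h1
  · rintro (h1 | h1) (h2 | h2)
    · omega
    · exact h.n_ne_m (h1.symm.trans h2)
    · rw [h1] at h2; nlinarith
    · rw [h1] at h2; nlinarith

end M

end Cfsg.Agent.Lib.Helper16.NM
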