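import Mathlib
import Cfsg.Agent.Lib.Helper16.NM.Base
import Cfsg.Agent.Lib.Helper17.Coprime
import Cfsg.Agent.Lib.Helper17.ClassGraph1

/-! S4146 toolkit (helper16): lemmas used by several leaves and by the glue. -/

set_option autoImplicit false

namespace Cfsg.Agent.Lib.Helper16.NM

open Cfsg.Agent.Lib.Helper22.ClsSet

variable {G : Type*} [Group G] [Finite G]

/-- T3: a non-central element has a non-central primary power -/
theorem exists_pEl_noncentral {g : G} (hg : g ∉ Subgroup.center G) :
    ∃ p : ℕ, p.Prime ∧ p ∣ orderOf g ∧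
      ∃ y ∈ Subgroup.zpowers g, PEl p y ∧ y ∉ Subgroup.center G := by
  suffices H : ∀ N : ℕ, ∀ g : G, orderOf g = N → g ∉ Subgroup.center G →
      ∃ p : ℕ, p.Prime ∧ p ∣ orderOf g ∧
        ∃ y ∈ Subgroup.zpowers g, PEl p y ∧ y ∉ Subgroup.center G from H _ g rfl hg
  clear hg g
  intro N
  induction N using Nat.strong_induction_on with
  | _ N ih =>
  intro g hN hg
  have h1 : orderOf g ≠ 1 := by
    intro h1
    rw [orderOf_eq_one_iff] at h1
    exact hg (h1 ▸ Subgroup.one_mem _)
  obtain ⟨p, hp, hpd⟩ := Nat.exists_prime_and_dvd h1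
  haveI := Fact.mk hp
  obtain ⟨i, j, hij, hpi, hcop⟩ := Cfsg.Agent.Lib.Helper17.exists_p_pprime_decomp p g
  by_cases hci : g ^ i ∈ Subgroup.center G
  · have hcj : g ^ j ∉ Subgroup.center G := by
      intro hcj
      apply hg
      rw [hij]
      exact mul_mem hci hcj
    have hd : orderOf (g ^ j) ∣ orderOf g := orderOf_dvd_of_pow_eq_one (by
      rw [← zpow_natCast, ← zpow_mul, mul_comm, zpow_mul, zpow_natCast, pow_orderOf_eq_one,
        one_zpow])
    have hlt : orderOf (g ^ j) < N := by
      rw [← hN]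
      apply lt_of_le_of_ne (Nat.le_of_dvd (orderOf_pos g) hd)
      intro e
      rw [e] at hcop
      have : p ∣ Nat.gcd (orderOf g) p := Nat.dvd_gcd hpd dvd_rfl
      rw [hcop] at this
      exact hp.one_lt.ne' (Nat.dvd_one.1 this)
    obtain ⟨p', hp', hp'd, y, hy, hyp, hyz⟩ := ih _ hlt (g ^ j) rfl hcj
    refine ⟨p', hp', hp'd.trans hd, y, ?_, hyp, hyz⟩
    have : Subgroup.zpowers (g ^ j) ≤ Subgroup.zpowers g := by
      rw [Subgroup.zpowers_le]
      exact Subgroup.zpow_mem_zpowers g j
    exact this hy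
  · exact ⟨p, hp, hpd, g ^ i, Subgroup.zpow_mem_zpowers g i, hpi, hci⟩

/-- T4: a `p`-element has a conjugate in the centralizer of `y` if `p ∤ idx y` -/
theorem exists_conj_commute {p : ℕ} [Fact p.Prime] {x y : G} (hx : PEl p x) (hy : ¬ p ∣ idx y) :
    ∃ c : G, Commute (c * x * c⁻¹) y := by
  obtain ⟨Q', hQ'⟩ := Cfsg.Agent.Lib.Helper17.ClassGraph.exists_sylow_le_of_not_dvd_index
    (q := p) (Subgroup.centralizer ({y} : Set G)) hy
  have hxp : IsPGroup p (Subgroup.zpowers x) := by
    obtain ⟨k, hk⟩ := hx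
    apply IsPGroup.of_card (n := k)
    rw [Nat.card_zpowers, hk]
  obtain ⟨P, hP⟩ := hxp.exists_le_sylow
  obtain ⟨c, hc⟩ := MulAction.exists_smul_eq G P Q'
  refine ⟨c, ?_⟩
  have hxP : x ∈ (P : Subgroup G) := hP (Subgroup.mem_zpowers x)
  have hmem : c * x * c⁻¹ ∈ ((c • P : Sylow p G) : Subgroup G) := by
    rw [Sylow.smul_def, Sylow.pointwise_smul_def]
    exact ⟨x, hxP, rfl⟩
  rw [hc] at hmem
  have := hQ' hmem
  rw [mem_cent_singleton] at this
  exact this.symm

omit [Finite G] in
theorem card_eq_card_mul_relIndex {H K : Subgroup G} (h : H ≤ K) :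
    Nat.card K = Nat.card H * H.relIndex K := by
  have h1 := Subgroup.card_mul_index (H.subgroupOf K)
  rw [← h1]
  congr 1
  exact Nat.card_congr (Subgroup.subgroupOfEquivOfLe h).toEquiv

/-- Lemma Q: if `k` commutes with a non-central `s`-element then the `s`-part of `|C(k)|` exceeds
that of `|Z(G)|` -/
theorem factorization_center_lt {s : ℕ} [hs : Fact s.Prime] {v k : G} (hvs : PEl s v)
    (hvz : v ∉ Subgroup.center G) (hc : Commute v k) :
    (Nat.card (Subgroup.center G)).factorization s <
      (Nat.card (Subgroup.centralizer ({k} : Set G))).factorization s := by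
  set Z := Subgroup.center G
  set A := Subgroup.zpowers v ⊔ Z
  have hZA : Z ≤ A := le_sup_right
  have hAC : A ≤ Subgroup.centralizer ({k} : Set G) := by
    apply sup_le
    · rw [Subgroup.zpowers_le, mem_cent_singleton]
      exact hc.symm.eq
    · intro z hz
      rw [mem_cent_singleton]
      exact (Subgroup.mem_center_iff.1 hz k)
  have hd : Z.relIndex A = Z.relIndex (Subgroup.zpowers v) :=
    Subgroup.relIndex_sup_right (Subgroup.zpowers v) Z
  have hd1 : Z.relIndex (Subgroup.zpowers v) ∣ orderOf v := by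
    have := Subgroup.relIndex_dvd_card Z (Subgroup.zpowers v)
    rwa [Nat.card_zpowers] at this
  obtain ⟨e, he⟩ := hvs
  rw [he] at hd1
  obtain ⟨j, -, hj⟩ := (Nat.dvd_prime_pow hs.out).1 hd1
  have hj0 : j ≠ 0 := by
    rintro rfl
    rw [pow_zero, Subgroup.relIndex_eq_one, Subgroup.zpowers_le] at hj
    exact hvz hj
  have hcardA : Nat.card A = Nat.card Z * s ^ j := by
    rw [card_eq_card_mul_relIndex hZA, hd, hj]
  have hdvd : Nat.card A ∣ Nat.card (Subgroup.centralizer ({k} : Set G)) :=
    Subgroup.card_dvd_of_le hAC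
  have h1 : (Nat.card A).factorization s = (Nat.card Z).factorization s + j := by
    rw [hcardA, Nat.factorization_mul Nat.card_pos.ne' (pow_ne_zero _ hs.out.ne_zero),
      Finsupp.add_apply, Nat.factorization_pow, Finsupp.smul_apply, hs.out.factorization_self,
      smul_eq_mul, mul_one]
  have h2 : (Nat.card A).factorization s ≤
      (Nat.card (Subgroup.centralizer ({k} : Set G))).factorization s :=
    (Nat.factorization_le_iff_dvd Nat.card_pos.ne' Nat.card_pos.ne').2 hdvd s
  have : 0 < j := Nat.pos_of_ne_zero hj0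
  omega

/-- Lemma P': if all `q`-elements of `C(h0)` are central then
`v_q |G| = v_q (idx h0) + v_q |Z(G)|` -/
theorem factorization_card_eq {q : ℕ} [hq : Fact q.Prime] {h0 : G}
    (hc : ∀ g : G, PEl q g → Commute g h0 → g ∈ Subgroup.center G) :
    (Nat.card G).factorization q =
      (idx h0).factorization q + (Nat.card (Subgroup.center G)).factorization q := by
  set C := Subgroup.centralizer ({h0} : Set G)
  have hZC : Subgroup.center G ≤ C := by
    intro z hz
    rw [mem_cent_singleton]
    exact (Subgroup.mem_center_iff.1 hz h0)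
  have h1 : (Nat.card (Subgroup.center G)).factorization q ≤ (Nat.card C).factorization q :=
    (Nat.factorization_le_iff_dvd Nat.card_pos.ne' Nat.card_pos.ne').2
      (Subgroup.card_dvd_of_le hZC) q
  obtain ⟨Q⟩ : Nonempty (Sylow q C) := inferInstance
  have hQle : (Q : Subgroup C).map C.subtype ≤ Subgroup.center G := by
    rintro _ ⟨g, hg, rfl⟩
    have hgp : ∃ k : ℕ, orderOf g = q ^ k := by
      have := (IsPGroup.iff_orderOf.1 Q.isPGroup') ⟨g, hg⟩
      obtain ⟨k, hk⟩ := this
      refine ⟨k, ?_⟩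
      rw [← hk]
      exact (Subgroup.orderOf_mk g hg).symm
    apply hc
    · obtain ⟨k, hk⟩ := hgp
      exact ⟨k, by rw [← hk]; exact Subgroup.orderOf_coe g⟩
    · have := g.2
      rw [mem_cent_singleton] at this
      exact this.symm
  have h2 : q ^ (Nat.card C).factorization q ∣ Nat.card (Subgroup.center G) := by
    have := Subgroup.card_dvd_of_le hQle
    rwa [Subgroup.card_map_of_injective C.subtype_injective, Q.card_eq_multiplicity] at this
  have h3 : (Nat.card C).factorization q ≤ (Nat.card (Subgroup.center G)).factorization q :=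
    (hq.out.pow_dvd_iff_le_factorization Nat.card_pos.ne').1 h2
  have h4 : Nat.card C * idx h0 = Nat.card G := card_cent_mul_idx h0
  rw [← h4, Nat.factorization_mul Nat.card_pos.ne' (idx_ne_zero h0), Finsupp.add_apply]
  omega

/-- Lemma P: if all `q`-elements of `C(h0)` are central, every `q`-element whose index has
`q`-part at least that of `idx h0` is central -/
theorem central_of_factorization_le {q : ℕ} [hq : Fact q.Prime] {h0 : G}
    (hc : ∀ g : G, PEl q g → Commute g h0 → g ∈ Subgroup.center G) {g : G} (hg : PEl q g)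
    (hle : (idx h0).factorization q ≤ (idx g).factorization q) : g ∈ Subgroup.center G := by
  by_contra hgz
  have h1 := factorization_center_lt hg hgz (Commute.refl g)
  have h2 := factorization_card_eq hc
  have h4 : Nat.card (Subgroup.centralizer ({g} : Set G)) * idx g = Nat.card G :=
    card_cent_mul_idx g
  rw [← h4, Nat.factorization_mul Nat.card_pos.ne' (idx_ne_zero g), Finsupp.add_apply] at h2
  omega

/-- there is a primary element of index `m` -/
theorem CS.exists_pEl_idx_m {n m : ℕ} (h : CS G n m) :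
    ∃ p : ℕ, p.Prime ∧ ∃ g : G, PEl p g ∧ idx g = m := by
  obtain ⟨g, hg⟩ := h.ex_m
  have hgz : g ∉ Subgroup.center G := by
    rw [← idx_eq_one_iff, hg]
    exact h.one_lt_m.ne'
  obtain ⟨p, hp, -, y, hy, hyp, hyz⟩ := exists_pEl_noncentral hgz
  refine ⟨p, hp, y, hyp, ?_⟩
  have hd : idx y ∣ m := hg ▸ idx_dvd_of_mem_zpowers hy
  rcases h.idx_of_dvd_m hd with e | e
  · exact absurd ((idx_eq_one_iff y).1 e) hyz
  · exact e

theorem CS.exists_pEl_idx_n {n m : ℕ} (h : CS G n m) :
    ∃ p : ℕ, p.Prime ∧ ∃ g : G, PEl p g ∧ idx g = n := h.symm.exists_pEl_idx_m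

end Cfsg.Agent.Lib.Helper16.NM
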