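import Cfsg.Agent.Lib.Helper16.NM.Tool
import Cfsg.Agent.Lib.Helper12.NMML
import Cfsg.Agent.Lib.Helper12.NMEL
import Cfsg.Agent.Lib.Helper26.NMGD
import Cfsg.Agent.Lib.Helper18.NMM2
import Cfsg.Agent.Lib.Helper18.NMFL
import Cfsg.Agent.Lib.Helper14.NMM3
import Cfsg.Agent.Lib.Helper14.NMCM
import Cfsg.Agent.Lib.Helper9.NMPT
import Cfsg.Agent.Lib.Helper20.NMN1
import Cfsg.Agent.Lib.Helper20.NML4B
import Cfsg.Agent.Lib.Helper1.NML41
import Cfsg.Agent.Lib.Helper1.NMSP1
import Cfsg.Agent.Lib.Helper9.NMSP2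

/-!
# S4146 glue (helper16)

Class sizes exactly `{1, n, m, nm}` with `gcd(n,m) = 1`: `G` is nilpotent and `n`, `m` are prime powers.
Leaves: ML, EL (helper12), GD (helper26), M2, FL (helper18), M3, CM (helper14), PT, SP2 (helper9),
N1, L4B (helper20), L41, SP1 (helper1); toolkit `Helper16.NM.Tool`.  Paper proof: `notes/S4146_leaves.lean`.
-/

set_option autoImplicit false

namespace Cfsg.Agent.Lib.Helper16.NM

open Cfsg.Agent.Lib.Helper22.ClsSet

variable {G : Type*} [Group G] [Finite G] {n m : ℕ}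

theorem PEl_conj {p : ℕ} {g : G} (hg : PEl p g) (c : G) : PEl p (c * g * c⁻¹) := by
  obtain ⟨k, hk⟩ := hg
  refine ⟨k, ?_⟩
  rw [← hk]
  exact orderOf_injective (MulAut.conj c : G ≃* G).toMonoidHom (MulAut.conj c).injective g

theorem PEl_inv {p : ℕ} {g : G} (hg : PEl p g) : PEl p g⁻¹ := by
  obtain ⟨k, hk⟩ := hg
  exact ⟨k, by rw [orderOf_inv, hk]⟩

theorem PEl_mul {p : ℕ} (hp : p.Prime) {a b : G} (ha : PEl p a) (hb : PEl p b)
    (hc : Commute a b) : PEl p (a * b) := by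
  obtain ⟨i, hi⟩ := ha
  obtain ⟨j, hj⟩ := hb
  have h1 : orderOf (a * b) ∣ Nat.lcm (orderOf a) (orderOf b) := hc.orderOf_mul_dvd_lcm
  have h2 : Nat.lcm (orderOf a) (orderOf b) ∣ p ^ (max i j) := by
    apply Nat.lcm_dvd
    · rw [hi]; exact pow_dvd_pow p (le_max_left i j)
    · rw [hj]; exact pow_dvd_pow p (le_max_right i j)
  obtain ⟨k, -, hk⟩ := (Nat.dvd_prime_pow hp).1 (h1.trans h2)
  exact ⟨k, hk⟩

theorem PEl_coprime {p q : ℕ} (hp : p.Prime) (hq : q.Prime) (hpq : p ≠ q) {a b : G}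
    (ha : PEl p a) (hb : PEl q b) : (orderOf a).Coprime (orderOf b) := by
  obtain ⟨i, hi⟩ := ha
  obtain ⟨j, hj⟩ := hb
  rw [hi, hj]
  exact Nat.Coprime.pow i j ((Nat.coprime_primes hp hq).2 hpq)

/-- the `p`-elements of `M` (for `p ∤ m`) form an abelian normal subgroup -/
noncomputable def V (h : CS G n m) (hlt : m < n) (p : ℕ) [Fact p.Prime] (hpm : ¬ p ∣ m) :
    Subgroup G where
  carrier := {g | g ∈ M h hlt ∧ PEl p g}
  one_mem' := ⟨one_mem _, 0, by simp⟩
  mul_mem' := by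
    rintro a b ⟨ha, hap⟩ ⟨hb, hbp⟩
    exact ⟨mul_mem ha hb, PEl_mul Fact.out hap hbp (Cfsg.Agent.Lib.Helper14.NM.M3 h hlt hpm ha hap hb)⟩
  inv_mem' := by
    rintro a ⟨ha, hap⟩
    exact ⟨inv_mem ha, PEl_inv hap⟩

theorem mem_V (h : CS G n m) (hlt : m < n) (p : ℕ) [Fact p.Prime] (hpm : ¬ p ∣ m) (g : G) :
    g ∈ V h hlt p hpm ↔ g ∈ M h hlt ∧ PEl p g := Iff.rfl

instance V_normal (h : CS G n m) (hlt : m < n) (p : ℕ) [Fact p.Prime] (hpm : ¬ p ∣ m) :
    (V h hlt p hpm).Normal where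
  conj_mem := by
    rintro g ⟨hg, hgp⟩ c
    exact ⟨(M_normal h hlt).conj_mem g hg c, PEl_conj hgp c⟩

theorem V_isPGroup (h : CS G n m) (hlt : m < n) (p : ℕ) [Fact p.Prime] (hpm : ¬ p ∣ m) :
    IsPGroup p (V h hlt p hpm) := by
  rintro ⟨g, hg⟩
  obtain ⟨k, hk⟩ := hg.2
  refine ⟨k, ?_⟩
  apply Subtype.ext
  rw [Subgroup.coe_pow, Subgroup.coe_one]
  show g ^ p ^ k = 1
  rw [← hk]
  exact pow_orderOf_eq_one g

theorem V_le_M (h : CS G n m) (hlt : m < n) (p : ℕ) [Fact p.Prime] (hpm : ¬ p ∣ m) :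
    V h hlt p hpm ≤ M h hlt := fun _ hg => hg.1

theorem not_central_of_idx {k : ℕ} (hk : 1 < k) {g : G} (hg : idx g = k) :
    g ∉ Subgroup.center G := by
  rw [← idx_eq_one_iff, hg]
  omega

/-- two commuting non-central elements of `M` of coprime orders have the same centralizer -/
theorem cent_eq_of_commute_M (h : CS G n m) (hlt : m < n) {a b : G} (ha : a ∈ M h hlt)
    (hb : b ∈ M h hlt) (haz : a ∉ Subgroup.center G) (hbz : b ∉ Subgroup.center G)
    (hc : Commute a b) (hcop : (orderOf a).Coprime (orderOf b)) :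
    Subgroup.centralizer ({a} : Set G) = Subgroup.centralizer ({b} : Set G) := by
  have hia : idx a = m := by
    rcases (mem_M h hlt a).1 ha with e | e
    · exact absurd ((idx_eq_one_iff a).1 e) haz
    · exact e
  have hib : idx b = m := by
    rcases (mem_M h hlt b).1 hb with e | e
    · exact absurd ((idx_eq_one_iff b).1 e) hbz
    · exact e
  have hab : a * b ∈ M h hlt := mul_mem ha hb
  have hd : idx a ∣ idx (a * b) := idx_dvd_mul_left_of_coprime hc hcop
  have hiab : idx (a * b) = m := by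
    rcases (mem_M h hlt _).1 hab with e | e
    · rw [e, hia] at hd
      have := Nat.le_of_dvd one_pos hd
      have := h.one_lt_m
      omega
    · exact e
  have hE := cent_mul_of_coprime hc hcop
  have key : ∀ {H K : Subgroup G}, H ≤ K → H.index = K.index → H = K := by
    intro H K hle hidx
    by_contra hne
    have hlt' : H < K := lt_of_le_of_ne hle hne
    have := Subgroup.index_strictAnti hlt'
    omega
  have h1 : Subgroup.centralizer ({a * b} : Set G) = Subgroup.centralizer ({a} : Set G) := by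
    apply key
    · rw [hE]; exact inf_le_left
    · show idx (a * b) = idx a
      rw [hiab, hia]
  have h2 : Subgroup.centralizer ({a * b} : Set G) = Subgroup.centralizer ({b} : Set G) := by
    apply key
    · rw [hE]; exact inf_le_right
    · show idx (a * b) = idx b
      rw [hiab, hib]
  rw [← h1, h2]

/-- Step 3: the crossed prime-power configuration is impossible -/
theorem crossedPP_false (h : CS G n m) (hlt : m < n) {r t : ℕ} [hr : Fact r.Prime]
    [ht : Fact t.Prime] (hrt : r ≠ t) {u : G} (hu : PEl r u) (hiu : idx u = m)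
    {a b : ℕ} (hn : n = r ^ a) (hm : m = t ^ b) : False := by
  have hrm : ¬ r ∣ m := by
    rw [hm]
    intro hd
    exact hrt ((Nat.prime_dvd_prime_iff_eq hr.out ht.out).1 (hr.out.dvd_of_dvd_pow hd))
  have huV : u ∈ V h hlt r hrm := ⟨Or.inr hiu, hu⟩
  have huz : u ∉ Subgroup.center G := not_central_of_idx h.one_lt_m hiu
  have hnt : ¬ V h hlt r hrm ≤ Subgroup.center G := fun hle => huz (hle huV)
  have hVc : ∀ v ∈ V h hlt r hrm, ∀ w ∈ V h hlt r hrm, Commute v w :=
    fun v hv w hw => Cfsg.Agent.Lib.Helper14.NM.M3 h hlt hrm hv.1 hv.2 hw.1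
  have hno : ∀ g : G, PEl r g → idx g ≠ n := fun g hg hig =>
    Cfsg.Agent.Lib.Helper20.NM.N1 h hlt hn (V h hlt r hrm) (V_isPGroup h hlt r hrm) (V_le_M h hlt r hrm) hnt hg hig
  obtain ⟨h0, hh0, ⟨v0, hv0, hv0c⟩, hfix⟩ :=
    Cfsg.Agent.Lib.Helper9.NM.PT h hlt hrt hm (V h hlt r hrm) (fun g => Iff.rfl) hVc hnt
  have hh0M : h0 ∉ M h hlt := fun hmem => hv0c (Cfsg.Agent.Lib.Helper14.NM.M3 h hlt hrm hv0.1 hv0.2 hmem)
  have hidx : n ∣ idx h0 := by
    rcases (not_mem_M_iff h hlt h0).1 hh0M with e | e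
    · rw [e]
    · rw [e]; exact dvd_mul_right n m
  have hcop : (orderOf h0).Coprime r := by
    obtain ⟨k, hk⟩ := hh0
    rw [hk]
    exact Nat.Coprime.pow_left k ((Nat.coprime_primes ht.out hr.out).2 hrt.symm)
  have ha0 : a ≠ 0 := by
    rintro rfl
    rw [pow_zero] at hn
    have := h.one_lt_n
    omega
  have hsn : r ∣ n := by rw [hn]; exact dvd_pow_self r ha0
  obtain ⟨hall, hcard⟩ :=
    Cfsg.Agent.Lib.Helper18.NM.FL h hlt hsn (V h hlt r hrm) (fun g => Iff.rfl) hVc hno hcop hidx hfix hnt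
  have hallM : ∀ g : G, PEl r g → g ∈ M h hlt := fun g hg => (hall g hg).1
  apply Cfsg.Agent.Lib.Helper12.NM.EL h hlt
  intro v hv hvz
  obtain ⟨p, hp, -, y, hy, hyp, hyz⟩ := exists_pEl_noncentral hvz
  refine le_trans (cent_le_of_mem_zpowers hy) ?_
  have hyM : y ∈ M h hlt := by
    have hd : idx y ∣ idx v := idx_dvd_of_mem_zpowers hy
    rcases (mem_M h hlt v).1 hv with e | e
    · rw [e] at hd
      exact Or.inl (Nat.dvd_one.1 hd)
    · rw [e] at hd
      exact h.idx_of_dvd_m hd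
  have hiy : idx y = m := by
    rcases hyM with e | e
    · exact absurd ((idx_eq_one_iff y).1 e) hyz
    · exact e
  by_cases hpr : p = r
  · subst hpr
    exact Cfsg.Agent.Lib.Helper14.NM.CM h hlt hallM hcard hyp hyz
  · obtain ⟨c, hc⟩ := exists_conj_commute (p := r) hu (y := y) (by rw [hiy]; exact hrm)
    have hu'V : c * u * c⁻¹ ∈ V h hlt r hrm := (V_normal h hlt r hrm).conj_mem u huV c
    have hu'z : c * u * c⁻¹ ∉ Subgroup.center G := by
      apply not_central_of_idx h.one_lt_m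
      rw [idx_conj, hiu]
    have hcop' : (orderOf (c * u * c⁻¹)).Coprime (orderOf y) :=
      PEl_coprime hr.out hp (Ne.symm hpr) hu'V.2 hyp
    have hE := cent_eq_of_commute_M h hlt hu'V.1 hyM hu'z hyz hc hcop'
    rw [← hE]
    exact Cfsg.Agent.Lib.Helper14.NM.CM h hlt hallM hcard hu'V.2 hu'z

/-- no commuting pair of primary elements of indices `m`, `n` for distinct primes -/
def NoComm (G : Type*) [Group G] (n m : ℕ) : Prop :=
  ∀ (p q : ℕ) (a b : G), p.Prime → q.Prime → p ≠ q → PEl p a → PEl q b →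
    idx a = m → idx b = n → ¬ Commute a b

theorem not_dvd_m_of_dvd_n (h : CS G n m) {p : ℕ} (hp : p.Prime) (hpn : p ∣ n) : ¬ p ∣ m := by
  intro hpm
  have : p ∣ Nat.gcd n m := Nat.dvd_gcd hpn hpm
  rw [h.cop] at this
  exact hp.one_lt.ne' (Nat.dvd_one.1 this)

theorem crossed_of_noComm (h : CS G n m) (hno : NoComm G n m) {s t : ℕ} (hs : s.Prime)
    (ht : t.Prime) (hst : s ≠ t) {u x : G} (hu : PEl s u) (hx : PEl t x) (hiu : idx u = m)
    (hix : idx x = n) : s ∣ n ∧ t ∣ m := by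
  haveI := Fact.mk hs
  haveI := Fact.mk ht
  constructor
  · by_contra hsn
    obtain ⟨c, hc⟩ := exists_conj_commute (p := s) hu (y := x) (by rw [hix]; exact hsn)
    exact hno s t (c * u * c⁻¹) x hs ht hst (PEl_conj hu c) hx (by rw [idx_conj, hiu]) hix hc
  · by_contra htm
    obtain ⟨c, hc⟩ := exists_conj_commute (p := t) hx (y := u) (by rw [hiu]; exact htm)
    exact hno s t u (c * x * c⁻¹) hs ht hst hu (PEl_conj hx c) hiu (by rw [idx_conj, hix]) hc.symm

theorem mem_M_of_mem_zpowers (h : CS G n m) (hlt : m < n) {v y : G} (hv : v ∈ M h hlt)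
    (hy : y ∈ Subgroup.zpowers v) : y ∈ M h hlt := by
  have hd : idx y ∣ idx v := idx_dvd_of_mem_zpowers hy
  rcases (mem_M h hlt v).1 hv with e | e
  · rw [e] at hd
    exact Or.inl (Nat.dvd_one.1 hd)
  · rw [e] at hd
    exact h.idx_of_dvd_m hd

theorem idx_eq_m_of_mem_M (h : CS G n m) (hlt : m < n) {y : G} (hy : y ∈ M h hlt)
    (hyz : y ∉ Subgroup.center G) : idx y = m := by
  rcases hy with e | e
  · exact absurd ((idx_eq_one_iff y).1 e) hyz
  · exact e

/-- case (4A) -/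
theorem caseA_false (h : CS G n m) (hlt : m < n) (hno : NoComm G n m)
    (hdisj : ∀ (p : ℕ) (a b : G), p.Prime → PEl p a → PEl p b → idx a = m → idx b = n → False) :
    False := by
  obtain ⟨t, ht, x, hx, hix⟩ := h.exists_pEl_idx_n
  apply Cfsg.Agent.Lib.Helper12.NM.EL h hlt
  intro v hv hvz
  obtain ⟨s, hs, -, y, hy, hys, hyz⟩ := exists_pEl_noncentral hvz
  refine le_trans (cent_le_of_mem_zpowers hy) ?_
  have hyM : y ∈ M h hlt := mem_M_of_mem_zpowers h hlt hv hy
  have hiy : idx y = m := idx_eq_m_of_mem_M h hlt hyM hyz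
  haveI := Fact.mk hs
  haveI := Fact.mk ht
  have hst : s ≠ t := fun e => hdisj s y x hs hys (e ▸ hx) hiy hix
  obtain ⟨hsn, htm⟩ := crossed_of_noComm h hno hs ht hst hys hx hiy hix
  have hsm : ¬ s ∣ m := not_dvd_m_of_dvd_n h hs hsn
  have hVc : ∀ v ∈ V h hlt s hsm, ∀ w ∈ V h hlt s hsm, Commute v w :=
    fun v hv w hw => Cfsg.Agent.Lib.Helper14.NM.M3 h hlt hsm hv.1 hv.2 hw.1
  have hno_s : ∀ g : G, PEl s g → idx g ≠ n := fun g hg hig => hdisj s y g hs hys hg hiy hig
  have hcop : (orderOf x).Coprime s := by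
    obtain ⟨k, hk⟩ := hx
    rw [hk]
    exact Nat.Coprime.pow_left k ((Nat.coprime_primes ht hs).2 hst.symm)
  have hfix : ∀ v' ∈ V h hlt s hsm, Commute v' x → v' ∈ Subgroup.center G := by
    intro v' hv' hc
    by_contra hz
    exact hno s t v' x hs ht hst hv'.2 hx (idx_eq_m_of_mem_M h hlt hv'.1 hz) hix hc
  have hnt : ¬ V h hlt s hsm ≤ Subgroup.center G := fun hle => hyz (hle ⟨hyM, hys⟩)
  obtain ⟨hall, hcard⟩ := Cfsg.Agent.Lib.Helper18.NM.FL h hlt hsn (V h hlt s hsm) (fun g => Iff.rfl) hVc hno_s hcop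
    (by rw [hix]) hfix hnt
  exact Cfsg.Agent.Lib.Helper14.NM.CM h hlt (fun g hg => (hall g hg).1) hcard hys hyz

/-- case (4B) -/
theorem caseB_false (h : CS G n m) (hlt : m < n) (hno : NoComm G n m) {s t : ℕ}
    [hs : Fact s.Prime] [ht : Fact t.Prime] (hst : s ≠ t)
    (hEm : ∀ (p : ℕ) (g : G), p.Prime → PEl p g → idx g = m → p = s)
    {u x' x : G} (hu : PEl s u) (hiu : idx u = m) (hx' : PEl s x') (hix' : idx x' = n)
    (hx : PEl t x) (hix : idx x = n) : False := by
  have hn0 : n ≠ 0 := by have := h.one_lt_n; omega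
  have hn : n = s ^ n.primeFactorsList.length :=
    Nat.eq_prime_pow_of_unique_prime_dvd hn0
      (fun {d} hd hdn => Cfsg.Agent.Lib.Helper20.NM.L4B h hst hno hEm hu hiu hx hix hd hdn)
  obtain ⟨hsn, -⟩ := crossed_of_noComm h hno hs.out ht.out hst hu hx hiu hix
  have hsm : ¬ s ∣ m := not_dvd_m_of_dvd_n h hs.out hsn
  have huz : u ∉ Subgroup.center G := not_central_of_idx h.one_lt_m hiu
  have hnt : ¬ V h hlt s hsm ≤ Subgroup.center G := fun hle => huz (hle ⟨Or.inr hiu, hu⟩)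
  exact Cfsg.Agent.Lib.Helper20.NM.N1 h hlt hn (V h hlt s hsm) (V_isPGroup h hlt s hsm) (V_le_M h hlt s hsm) hnt
    hx' hix'

/-- single prime -/
theorem single_false (h : CS G n m) {s : ℕ} [hs : Fact s.Prime]
    (hEm : ∀ (p : ℕ) (g : G), p.Prime → PEl p g → idx g = m → p = s)
    (hEn : ∀ (p : ℕ) (g : G), p.Prime → PEl p g → idx g = n → p = s) : False := by
  have aux : ∀ {k : ℕ}, 1 < k → (∀ (p : ℕ) (g : G), p.Prime → PEl p g → idx g = k → p = s) →
      (∀ g : G, idx g ∣ k → idx g = 1 ∨ idx g = k) →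
      ∀ g : G, (orderOf g).Coprime s → idx g = k → False := by
    intro k hk hE hdiv g hg e
    have hgz : g ∉ Subgroup.center G := not_central_of_idx hk e
    obtain ⟨p, hp, hpo, y, hy, hyp, hyz⟩ := exists_pEl_noncentral hgz
    have hd : idx y ∣ k := e ▸ idx_dvd_of_mem_zpowers hy
    have hiy : idx y = k := by
      rcases hdiv y hd with e' | e'
      · exact absurd ((idx_eq_one_iff y).1 e') hyz
      · exact e'
    have hps : p = s := hE p y hp hyp hiy
    rw [hps] at hpo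
    have : s ∣ Nat.gcd (orderOf g) s := Nat.dvd_gcd hpo dvd_rfl
    rw [hg] at this
    exact hs.out.one_lt.ne' (Nat.dvd_one.1 this)
  have hreg : ∀ g : G, (orderOf g).Coprime s → idx g = 1 ∨ idx g = n * m := by
    intro g hg
    rcases h.cs g with e | e | e | e
    · exact Or.inl e
    · exact (aux h.one_lt_n hEn (fun g hd => h.idx_of_dvd_n hd) g hg e).elim
    · exact (aux h.one_lt_m hEm (fun g hd => h.idx_of_dvd_m hd) g hg e).elim
    · exact Or.inr e
  obtain ⟨q, hq, hqs, i, j, hcase⟩ := Cfsg.Agent.Lib.Helper1.NM.SP1 h hreg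
  obtain ⟨pm, hpm, u, hu, hiu⟩ := h.exists_pEl_idx_m
  obtain ⟨pn, hpn, x, hx, hix⟩ := h.exists_pEl_idx_n
  have e1 : pm = s := hEm pm u hpm hu hiu
  have e2 : pn = s := hEn pn x hpn hx hix
  subst e1
  subst e2
  haveI := Fact.mk hq
  rcases hcase with ⟨hn, hm⟩ | ⟨hn, hm⟩
  · exact Cfsg.Agent.Lib.Helper9.NM.SP2 h hqs.symm hn hm hreg hx hix hu hiu
  · refine Cfsg.Agent.Lib.Helper9.NM.SP2 h.symm hqs.symm hm hn ?_ hu hiu hx hix
    intro g hg
    rcases hreg g hg with e | e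
    · exact Or.inl e
    · exact Or.inr (by rw [e, mul_comm])

theorem isPrimePow_of_eq_pow {k p a : ℕ} (hp : p.Prime) (hk : 1 < k) (e : k = p ^ a) :
    IsPrimePow k := by
  have ha : a ≠ 0 := by
    rintro rfl
    rw [pow_zero] at e
    omega
  rw [e]
  exact hp.isPrimePow.pow ha

/-- the theorem for `m < n` -/
theorem core (h : CS G n m) (hlt : m < n) :
    Group.IsNilpotent G ∧ IsPrimePow n ∧ IsPrimePow m := by
  by_cases hC : ∃ (s t : ℕ) (u x : G), s.Prime ∧ t.Prime ∧ s ≠ t ∧ PEl s u ∧ PEl t x ∧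
      idx u = m ∧ idx x = n ∧ Commute u x
  · obtain ⟨s, t, u, x, hs, ht, hst, hu, hx, hiu, hix, hc⟩ := hC
    haveI := Fact.mk hs
    haveI := Fact.mk ht
    rcases Cfsg.Agent.Lib.Helper12.NM.ML h hst hu hx hiu hix hc with ⟨a, b, hn, hm⟩ | ⟨a, b, hn, hm⟩
    · exact ⟨Cfsg.Agent.Lib.Helper26.NM.GD h hst hu hx hiu hix hn hm, isPrimePow_of_eq_pow ht h.one_lt_n hn,
        isPrimePow_of_eq_pow hs h.one_lt_m hm⟩
    · exact (crossedPP_false h hlt hst hu hiu hn hm).elim
  · exfalso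
    have hno : NoComm G n m := by
      intro p q a b hp hq hpq ha hb hia hib hc
      exact hC ⟨p, q, a, b, hp, hq, hpq, ha, hb, hia, hib, hc⟩
    by_cases hdisj : ∀ (p : ℕ) (a b : G), p.Prime → PEl p a → PEl p b → idx a = m → idx b = n →
        False
    · exact caseA_false h hlt hno hdisj
    · push Not at hdisj
      obtain ⟨p, up, xp, hp, hup, hxp, hiup, hixp, -⟩ := hdisj
      haveI := Fact.mk hp
      by_cases hEm : ∀ (q : ℕ) (g : G), q.Prime → PEl q g → idx g = m → q = p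
      · by_cases hEn : ∀ (q : ℕ) (g : G), q.Prime → PEl q g → idx g = n → q = p
        · exact single_false h hEm hEn
        · push Not at hEn
          obtain ⟨t, x, ht, hx, hix, htp⟩ := hEn
          haveI := Fact.mk ht
          exact caseB_false h hlt hno (Ne.symm htp) hEm hup hiup hxp hixp hx hix
      · push Not at hEm
        obtain ⟨s', u', hs', hu', hiu', hs'p⟩ := hEm
        haveI := Fact.mk hs'
        obtain ⟨hs'n, hpm⟩ := crossed_of_noComm h hno hs' hp hs'p hu' hxp hiu' hixp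
        have hs'm : ¬ s' ∣ m := not_dvd_m_of_dvd_n h hs' hs'n
        exact Cfsg.Agent.Lib.Helper1.NM.L41 h hlt hs'm hu' hiu' hixp
          (fun c hc => hno s' p (c * u' * c⁻¹) xp hs' hp hs'p (PEl_conj hu' c) hxp
            (by rw [idx_conj, hiu']) hixp hc) hpm hup hiup

theorem CS_of_range {n m : ℕ} (hn : 1 < n) (hm : 1 < m) (hcop : n.Coprime m)
    (h : Set.range (fun x : G => (Subgroup.centralizer ({x} : Set G)).index) =
      ({1, n, m, n * m} : Set ℕ)) : CS G n m where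
  one_lt_n := hn
  one_lt_m := hm
  cop := hcop
  cs := fun g => by
    have : idx g ∈ Set.range (fun x : G => (Subgroup.centralizer ({x} : Set G)).index) := ⟨g, rfl⟩
    rw [h] at this
    simpa using this
  ex_n := by
    have : n ∈ ({1, n, m, n * m} : Set ℕ) := by simp
    rw [← h] at this
    exact this
  ex_m := by
    have : m ∈ ({1, n, m, n * m} : Set ℕ) := by simp
    rw [← h] at this
    exact this
  ex_nm := by
    have : n * m ∈ ({1, n, m, n * m} : Set ℕ) := by simp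
    rw [← h] at this
    exact this

theorem final {G : Type*} [Group G] [Finite G] (n m : ℕ) (hn : 1 < n) (hm : 1 < m)
    (hcop : n.Coprime m)
    (h : Set.range (fun x : G => (Subgroup.centralizer ({x} : Set G)).index) =
      ({1, n, m, n * m} : Set ℕ)) :
    Group.IsNilpotent G ∧ IsPrimePow n ∧ IsPrimePow m := by
  have hcs := CS_of_range hn hm hcop h
  rcases lt_or_gt_of_ne hcs.n_ne_m with hlt | hlt
  · obtain ⟨h1, h2, h3⟩ := core hcs.symm hlt
    exact ⟨h1, h3, h2⟩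
  · exact core hcs hlt

end Cfsg.Agent.Lib.Helper16.NM
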